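import Groth.Prelude.Def_EtDual
import Groth.Agent.BrauerXPic.Main
import Groth.Agent.InvUfdLib.Pushforward
import Groth.Agent.EtDerLib.RpushLoc
import Groth.Agent.EtDual68.TateLocal

/-!
# `R¹j_* 𝔾_m = 0` for open immersions across points with factorial local rings
-/

universe u

open CategoryTheory CategoryTheory.Limits AlgebraicGeometry Opposite CategoryTheory.Abelian

noncomputable section

namespace Groth.Agent.EtDual68.Divisor

open Groth.Agent.BrauerXPic Groth.Agent.InvX

set_option backward.isDefEq.respectTransparency.types false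
set_option linter.style.haveILetI false

variable {X : Scheme.{u}}

/-- sections on opens covering an open glue -/
theorem exists_glue_open {I : Type u} (P : I → X.Opens) (O : X.Opens) (hle : ∀ i, P i ≤ O)
    (hcov : ∀ x ∈ O, ∃ i, x ∈ P i) (F : EtCoh.Ab X) (t : ∀ i, EtCoh.sect F (EtDesc.ofOpen (P i)))
    (h : ∀ i j (T : X.Etale) (a : T ⟶ EtDesc.ofOpen (P i)) (b : T ⟶ EtDesc.ofOpen (P j)),
      F.obj.map a.op (t i) = F.obj.map b.op (t j)) :
    ∃ w : EtCoh.sect F (EtDesc.ofOpen O), ∀ i, F.obj.map (openHom (hle i)).op w = t i := by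
  let R : Presieve (EtDesc.ofOpen O) :=
    Presieve.ofArrows (fun i => EtDesc.ofOpen (P i)) fun i => openHom (hle i)
  have hR : Sieve.generate R ∈ X.smallEtaleTopology (EtDesc.ofOpen O) := by
    refine (EtFound.mem_topology_iff _).2 fun (x : O.toScheme) => ?_
    obtain ⟨i, hi⟩ := hcov x.1 x.2
    refine ⟨EtDesc.ofOpen (P i), openHom (hle i), ⟨x.1, hi⟩,
      ⟨_, 𝟙 _, _, Presieve.ofArrows.mk i, Category.id_comp _⟩, ?_⟩
    exact Subtype.ext (Scheme.homOfLE_apply (hle i) _)
  have hs : Presieve.IsSheafFor (F.obj ⋙ forget AddCommGrpCat.{u + 1}) R := by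
    rw [Presieve.isSheafFor_iff_generate]
    exact ((isSheaf_iff_isSheaf_of_type _ _).1
      ((Presheaf.isSheaf_iff_isSheaf_forget X.smallEtaleTopology F.obj
        (forget AddCommGrpCat.{u + 1})).1 F.2)) _ hR
  obtain ⟨w, hw, -⟩ := (Presieve.isSheafFor_arrows_iff _ _).1 hs t fun i j T a b _ => h i j T a b
  exact ⟨w, hw⟩

/-- a section of a quotient of an extension by `𝔾_m` gives an invertible module; where the module
has a frame the section lifts -/
theorem exists_frame_lift {S : ShortComplex (EtCoh.Ab X)} (hS : S.ShortExact) (e₁ : S.X₁ = EtCoh.Gm X)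
    (s : EtCoh.sect S.X₃ (EtCoh.top X)) :
    ∃ M : X.Modules, PicF.IsInvertible M ∧ ∀ (O : X.Opens) (m : Γ(M, O)), IsFrame m →
      ∃ w : EtCoh.sect S.X₂ (EtDesc.ofOpen O),
        S.g.hom.app (op (EtDesc.ofOpen O)) w = S.X₃.obj.map (toTop (EtDesc.ofOpen O)).op s := by
  obtain @⟨X₁, X₂, X₃, f, g, w⟩ := S
  obtain rfl : X₁ = EtCoh.Gm X := e₁
  have hker : ∀ (T : X.Etale) (b : EtCoh.sect (EtCoh.Gm X) T), g.hom.app (op T) (f.hom.app (op T) b) = 0 :=
    fun T b => congrArg (fun m : EtCoh.Gm X ⟶ X₃ => m.hom.app (op T) b) w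
  choose P hxP t ht using fun x : X => exists_local_lift hS rfl s x
  have hcov : ∀ x : X, ∃ i, x ∈ P i := fun x => ⟨x, hxP x⟩
  have hd : ∀ (i j : X) (W : X.Opens) (hi : W ≤ P i) (hj : W ≤ P j), ∃ b : EtCoh.sect (EtCoh.Gm X) (EtDesc.ofOpen W),
      f.hom.app _ b = X₂.obj.map (openHom hi).op (t i) - X₂.obj.map (openHom hj).op (t j) :=
    fun i j W hi hj => (sect_exact hS _).2 _ (by
      rw [map_sub, NatTrans.naturality_apply g.hom, NatTrans.naturality_apply g.hom, ht, ht, map_map, map_map,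
        map_eq_of_top X₃ (openHom hj ≫ toTop _) (openHom hi ≫ toTop _), sub_self])
  choose d hd using hd
  obtain ⟨M, e, hM, he, hee⟩ := IntTh85.LineGlue.exists_line P hcov
    (fun i j W hi hj => (unitVal (d i j W hi hj) : Γ(X, W))) (fun i j W hi hj => Units.isUnit _)
    (fun i j W W' hi hj h => by
      rw [← unitVal_map h]
      refine congrArg (fun z : EtCoh.sect (EtCoh.Gm X) (EtDesc.ofOpen W') => (unitVal z : Γ(X, W')))
        ((sect_exact hS _).1 ?_)
      rw [NatTrans.naturality_apply f.hom, hd, hd, map_sub, map_map, map_map]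
      exact congrArg₂ (· - ·) (map_eq_of_open X₂ _ _ _) (map_eq_of_open X₂ _ _ _))
    (fun i j l W hi hj hl => by
      rw [← Units.val_mul, ← unitVal_add]
      refine congrArg (fun z : EtCoh.sect (EtCoh.Gm X) (EtDesc.ofOpen W) => (unitVal z : Γ(X, W)))
        ((sect_exact hS _).1 ?_)
      rw [map_add, hd, hd, hd]
      abel)
  refine ⟨M, hM, fun O m hm => ?_⟩
  have hb : ∀ i, ∃ b : Γ(X, O ⊓ P i)ˣ, AModX.res M inf_le_right (e i) =
      (b : Γ(X, O ⊓ P i)) • AModX.res M inf_le_left m := by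
    intro i
    obtain ⟨r, hr⟩ := hm.exists_coord inf_le_left (AModX.res M (inf_le_right : O ⊓ P i ≤ P i) (e i))
    obtain ⟨r', hr'⟩ := (he i).exists_coord inf_le_right (AModX.res M (inf_le_left : O ⊓ P i ≤ O) m)
    have h1 : r * r' = 1 := (he i).coord_unique (inf_le_right : O ⊓ P i ≤ P i) (by
      rw [one_smul, mul_smul, ← hr', ← hr])
    exact ⟨⟨r, r', h1, (mul_comm r' r).trans h1⟩, hr⟩
  choose b hb using hb
  let w₀ : ∀ i, EtCoh.sect X₂ (EtDesc.ofOpen (O ⊓ P i)) := fun i =>
    X₂.obj.map (openHom inf_le_right).op (t i) - f.hom.app _ (unitSect (b i))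
  obtain ⟨w', hw'⟩ := exists_glue_open (fun i => O ⊓ P i) O (fun i => inf_le_left)
    (fun x hx => ⟨x, hx, hxP x⟩) X₂ w₀ fun i j T p q => by
      refine map_eq_of_inf p q _ _ _ ?_
      let W := (O ⊓ P i) ⊓ (O ⊓ P j)
      let hi : W ≤ O ⊓ P i := inf_le_left
      let hj : W ≤ O ⊓ P j := inf_le_right
      let hi' : W ≤ P i := hi.trans inf_le_right
      let hj' : W ≤ P j := hj.trans inf_le_right
      show X₂.obj.map (openHom hi).op (_ - _) = X₂.obj.map (openHom hj).op (_ - _)
      rw [map_sub, map_sub, ← NatTrans.naturality_apply f.hom, ← NatTrans.naturality_apply f.hom, map_map,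
        map_map, map_eq_of_open X₂ (openHom hi ≫ openHom inf_le_right) (openHom hi'),
        map_eq_of_open X₂ (openHom hj ≫ openHom inf_le_right) (openHom hj'),
        sub_eq_sub_iff_sub_eq_sub, ← hd i j _ hi' hj', ← map_sub]
      refine congrArg _ (eq_sub_iff_add_eq.2 (eq_of_unitVal ?_))
      rw [unitVal_add, Units.val_mul, unitVal_map_unitSect, unitVal_map_unitSect]
      refine hm.coord_unique (hi.trans inf_le_left) ?_
      have e₁ := hee i j _ hi' hj'
      have e₂ := congrArg (AModX.res M hi) (hb i)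
      have e₃ := congrArg (AModX.res M hj) (hb j)
      simp only [AModX.res_smul, AModX.res_res] at e₂ e₃
      rw [mul_smul, ← e₂]
      refine Eq.trans ?_ e₁.symm
      exact congrArg (_ • ·) e₃.symm
  refine ⟨w', EtFound.eq_of_cover X₃ _ _ ((EtFound.mem_topology_iff _).2 fun (x : O.toScheme) => ?_)⟩
  refine ⟨EtDesc.ofOpen (O ⊓ P x.1), openHom inf_le_left, ⟨x.1, x.2, hxP x.1⟩, ?_, Subtype.ext (Scheme.homOfLE_apply (inf_le_left : O ⊓ P x.1 ≤ O) _)⟩
  show X₃.obj.map (openHom (inf_le_left : O ⊓ P x.1 ≤ O)).op _ = X₃.obj.map (openHom (inf_le_left : O ⊓ P x.1 ≤ O)).op _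
  rw [← NatTrans.naturality_apply g.hom, hw', map_map]
  show g.hom.app _ (_ - _) = _
  rw [map_sub, hker, sub_zero, NatTrans.naturality_apply g.hom, ht, map_map]
  exact map_eq_of_top X₃ _ _ s

end Groth.Agent.EtDual68.Divisor
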